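/-!
Relators of a double cover, each an equality of two conjugates of the third generator, with the
factorisation of the centralising element.
-/

namespace CfsgLib.Coset.Ru.Schur

/-- A relator: rotation, length of the first palindrome, the two middle letters, and factors of
the centralising element with cosets they fix. -/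
structure Pal where
  w : List Nat
  r : Nat
  a : Nat
  m : Nat
  m' : Nat
  fac : List (List Nat × List Nat)

/-- Words carrying the third generator to the others. -/
def carry : List (List Nat) := [[2, 0, 2, 0], [0, 1, 2, 0, 2, 0], [], [0, 3, 0, 3, 2, 0, 2, 0], [2, 4, 2, 4]]

/-- The palindromic relators. -/
def pals : List Pal := [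
  ⟨[4, 0, 4, 0, 4, 0, 4, 0], 0, 1, 4, 4, [([4, 2, 4, 2, 0, 4, 0, 2, 4, 2, 4], [4, 1, 2, 4, 3])]⟩,
  ⟨[4, 0, 2, 4, 2, 4, 2, 0, 4, 0, 3, 0, 2, 0, 3, 0], 0, 9, 2, 2, [([0, 3, 0, 4, 0, 2, 4], [4, 1, 2, 1, 4, 2, 3, 4])]⟩,
  ⟨[4, 0, 4, 2, 4, 2, 4, 0, 4, 0, 3, 0, 2, 0, 3, 0], 0, 9, 4, 2, [([0, 3, 0, 4, 0, 2, 4], [4, 1, 2, 1, 4, 2, 3, 4])]⟩,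
  ⟨[4, 0, 4, 2, 0, 3, 4, 2, 4, 3, 4, 2, 4, 3, 0, 2], 0, 3, 0, 3, [([1, 0, 2, 4, 0, 2, 0, 2, 4, 1, 3, 2, 0, 4, 1, 3, 0, 1, 4, 0, 1], [4, 1, 4, 0, 4, 2, 3, 0, 1])]⟩,
  ⟨[4, 0, 4, 2, 0, 4, 2, 4, 0, 2, 4, 0, 4, 2, 0, 3, 0, 2], 0, 13, 2, 3, [([0, 2, 0, 2, 3, 0, 3, 2, 4, 0, 4, 2, 0, 4], [4, 3, 1, 0, 4, 3, 1, 4])]⟩,
  ⟨[4, 3, 4, 0, 2, 0, 3, 0, 2, 0, 4, 3, 4, 0, 2, 0, 3, 0, 2, 0], 0, 13, 3, 3, [([4, 3, 0, 3, 4], [4, 1, 2, 4, 3])]⟩,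
  ⟨[4, 0, 3, 0, 2, 0, 3, 0, 2, 0, 3, 0, 4, 2, 0, 3, 0, 2, 0, 3, 0, 2], 0, 13, 3, 2, [([0, 2, 3, 4, 3, 0, 4, 0, 3, 2, 4, 0, 3, 4, 0], [4, 1, 4, 0, 4, 2, 3, 0, 1])]⟩,
  ⟨[4, 2, 0, 3, 4, 2, 0, 2, 4, 3, 0, 2, 4, 0, 2, 0, 3, 0, 3, 0, 2, 0], 0, 13, 0, 0, [([0, 2, 0, 2, 3, 0, 2, 0, 4, 2, 0, 3, 4, 0, 2, 0], [4, 1, 4, 0, 4, 2, 3, 0, 1])]⟩,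
  ⟨[0, 2, 0, 2, 0, 3, 4, 1, 4, 3, 0, 2, 0, 2, 0, 3, 4, 1, 4, 3], 0, 5, 0, 0, [([0, 2, 3, 4, 1, 4, 3, 2, 0], [4, 0, 4, 1, 3])]⟩,
  ⟨[0, 1, 0, 1, 0, 1, 4, 3, 0, 3, 4, 1, 0, 1, 0, 1, 0, 4, 3, 0, 3, 4], 0, 17, 0, 0, [([], [])]⟩,
  ⟨[0, 2, 4, 3, 4, 0, 3, 0, 3, 0, 3, 2, 4, 2, 3, 0, 3, 0, 3, 0, 4, 3, 4, 2], 0, 1, 0, 4, [([4, 2, 4, 0, 3, 0, 3, 4, 3, 4, 0, 2, 0], [4, 1, 0, 3, 4, 2, 4])]⟩,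
  ⟨[0, 2, 1, 4, 1, 4, 1, 2, 0, 4, 0, 4, 2, 1, 4, 1, 4, 1, 2, 4, 0, 4], 0, 9, 1, 1, [([1, 0, 4, 1, 0, 3, 1, 3, 4, 0, 4, 1, 4, 3, 4, 2, 4, 0, 1, 2, 0, 4], [4, 1, 0, 4, 1, 0])]⟩,
  ⟨[0, 1, 4, 1, 0, 3, 0, 3, 0, 3, 0, 3, 0, 3, 1, 4, 1, 3, 0, 3, 0, 3, 0, 3, 0, 3], 0, 5, 4, 4, [([], [])]⟩,
  ⟨[0, 1, 2, 0, 1, 3, 4, 3, 4, 0, 2, 4, 3, 1, 3, 4, 2, 0, 4, 3, 4, 3, 1, 0, 2, 1], 0, 1, 0, 1, [([4, 3, 0, 3, 4], [4, 1, 2, 4, 3]), ([1, 0, 4, 0, 3, 4, 2, 1, 0, 3, 1, 3, 2, 4, 0, 1, 3, 0, 1, 0, 3, 0], [4, 0, 2, 3, 0, 3, 4])]⟩,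
  ⟨[0, 1, 2, 3, 1, 3, 4, 3, 2, 0, 4, 0, 3, 0, 4, 0, 2, 3, 4, 3, 1, 3, 2, 1, 0, 2], 0, 25, 3, 2, [([0, 2, 0, 4, 2, 0, 3, 4, 2, 0, 4, 3, 4, 2, 4, 0], [4, 1, 0, 3, 4, 2, 4])]⟩,
  ⟨[1, 2, 3, 2, 3, 1, 3, 1, 4, 3, 4, 1, 3, 1, 3, 2, 3, 2, 1, 3, 1, 4, 3, 4, 1, 3], 0, 19, 3, 3, [([], [])]⟩,
  ⟨[0, 1, 4, 1, 0, 1, 4, 1, 0, 2, 3, 2, 3, 0, 1, 4, 1, 0, 1, 4, 1, 0, 3, 2, 3, 2], 0, 9, 0, 0, [([], [])]⟩,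
  ⟨[0, 1, 2, 0, 2, 4, 2, 0, 2, 1, 3, 1, 4, 1, 3, 1, 2, 0, 2, 4, 2, 0, 2, 1, 0, 2], 0, 25, 4, 2, [([0, 1, 2, 0, 2, 4, 2, 0, 1, 3, 1, 4, 2, 4], [4, 1, 0, 3, 4, 2, 4])]⟩,
  ⟨[0, 1, 2, 3, 1, 3, 4, 2, 0, 4, 3, 4, 0, 2, 4, 3, 1, 3, 2, 1, 0, 2, 0, 3, 0, 2], 0, 21, 3, 3, [([0, 1, 2, 3, 1, 0, 3, 4, 2, 0, 4, 0, 3, 0, 3, 0, 2, 0], [4, 0, 3, 4, 1, 2, 0, 2, 0])]⟩,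
  ⟨[0, 2, 3, 4, 2, 4, 2, 0, 2, 4, 2, 4, 3, 2, 0, 2, 4, 0, 4, 3, 4, 0, 4, 2], 0, 15, 0, 3, [([4, 0, 4, 3, 4, 3, 1, 2, 3, 1, 0, 3, 0, 2, 0, 2, 0, 4, 0], [4, 1, 4, 0, 4, 2, 3, 0, 1])]⟩,
  ⟨[0, 2, 0, 3, 4, 1, 4, 0, 4, 1, 4, 3, 0, 2, 0, 4, 0, 3, 4, 1, 4, 1, 4, 3, 0, 4], 0, 15, 0, 4, [([3], []), ([0, 4, 1, 3, 4, 3, 0, 4, 1, 3, 4, 3, 4, 2, 0, 4, 0, 2, 0, 3, 0, 1], [4, 0, 2, 1, 4, 0, 2, 1, 0])]⟩,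
  ⟨[0, 2, 4, 2, 3, 2, 3, 4, 2, 0, 4, 2, 4, 0, 2, 4, 3, 2, 3, 2, 4, 2, 0, 4, 2, 4], 0, 23, 2, 2, [([], [])]⟩,
  ⟨[0, 2, 0, 4, 1, 2, 1, 3, 1, 2, 1, 3, 4, 0, 2, 0, 4, 3, 1, 2, 1, 3, 1, 2, 1, 4], 0, 3, 2, 2, [([], [])]⟩,
  ⟨[0, 1, 0, 1, 0, 1, 2, 4, 0, 4, 2, 1, 0, 1, 0, 1, 0, 2, 4, 0, 4, 2], 0, 17, 0, 0, [([], [])]⟩,
  ⟨[0, 3, 2, 3, 0, 3, 2, 4, 1, 4, 2, 3, 0, 3, 2, 3, 0, 3, 2, 4, 1, 4, 2, 3], 0, 5, 2, 2, [([1, 4, 0, 4, 1, 2, 0, 2, 1, 2, 0, 2, 1, 4, 0, 4, 1], [4, 0, 4, 1])]⟩,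
  ⟨[0, 2, 4, 2, 0, 2, 4, 3, 4, 3, 4, 2, 0, 2, 4, 2, 0, 2, 4, 3, 4, 3, 4, 2], 0, 5, 4, 4, [([4, 2, 4, 0, 2, 3, 4, 3, 4, 3, 2, 0, 4, 2, 4], [4, 0, 4, 1])]⟩,
  ⟨[0, 2, 0, 2, 1, 4, 1, 2, 0, 4, 3, 2, 1, 2, 3, 4, 0, 2, 1, 4, 1, 2, 0, 2, 0, 4], 0, 25, 1, 4, [([4, 1, 4, 2, 1, 0, 3, 4, 3, 2, 4, 1, 3, 4, 2, 4, 0, 1, 4], [4, 1, 3, 4, 0, 3, 1, 0])]⟩,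
  ⟨[0, 2, 3, 0, 3, 0, 2, 4, 3, 0, 3, 2, 4, 0, 4, 2, 3, 0, 3, 4, 2, 0, 3, 0, 3, 2], 0, 1, 0, 0, [([0, 2, 0, 4, 2, 4, 2, 3, 0, 3, 4, 0, 3, 0, 3, 0, 2, 0], [4, 1, 4, 0, 4, 2, 3, 0, 1])]⟩,
  ⟨[1, 2, 3, 2, 3, 1, 4, 3, 2, 1, 2, 3, 4, 1, 3, 2, 3, 2, 1, 4, 3, 2, 1, 2, 3, 4], 0, 19, 1, 1, [([], [])]⟩,
  ⟨[0, 2, 4, 2, 4, 3, 4, 2, 4, 2, 0, 3, 4, 3, 0, 4, 0, 3, 4, 3], 0, 11, 3, 4, [([4, 1, 0, 4, 1, 2, 0, 4, 2, 0, 1, 4, 1, 4, 2, 4, 0, 1], [4, 1, 4, 2, 3, 0, 3])]⟩,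
  ⟨[0, 1, 0, 4, 0, 1, 0, 4, 0, 1, 0, 4, 0, 1, 0, 4, 0, 1, 0, 4, 0, 1, 0, 4], 0, 3, 1, 1, [([4, 3, 4, 1, 4, 1, 0, 2, 0, 3, 4, 3, 0, 2, 0, 1, 4, 1, 4, 3, 4], [4, 1, 2, 4])]⟩,
  ⟨[0, 1, 0, 1, 0, 1, 3, 4, 3, 1, 0, 1, 0, 1, 0, 3, 4, 3], 0, 15, 4, 4, [([], [])]⟩,
  ⟨[0, 1, 0, 2, 4, 2, 0, 1, 0, 2, 4, 2, 0, 1, 0, 2, 4, 2, 0, 1, 0, 2, 4, 2], 0, 9, 4, 4, [([1, 0, 2, 0, 1, 0, 4, 1, 4, 0, 1, 0, 2, 0, 1], [4, 3, 0, 3, 4])]⟩,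
  ⟨[0, 2, 3, 2, 3, 0, 3, 4, 0, 3, 0, 4, 3, 0, 3, 2, 3, 2, 0, 3, 4, 0, 3, 0, 4, 3], 0, 19, 3, 3, [([], [])]⟩,
  ⟨[0, 2, 4, 0, 2, 4, 2, 1, 3, 2, 1, 4, 2, 0, 2, 4, 1, 2, 3, 1, 2, 4, 2, 0, 4, 2], 0, 1, 0, 0, [([0, 2, 0, 4, 2, 1, 3, 2, 1, 4, 2, 0, 4, 0, 2, 0], [4, 1, 4, 0, 4, 2, 3, 0, 1])]⟩,
  ⟨[0, 2, 4, 1, 2, 3, 2, 3, 1, 4, 2, 0, 2, 4, 1, 3, 2, 3, 2, 1, 4, 2], 0, 1, 0, 0, [([], [])]⟩,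
  ⟨[0, 2, 0, 3, 1, 4, 2, 3, 2, 3, 4, 1, 3, 0, 2, 0, 3, 1, 4, 3, 2, 3, 2, 4, 1, 3], 0, 3, 2, 2, [([], [])]⟩,
  ⟨[0, 3, 1, 3, 0, 3, 4, 2, 4, 3, 0, 3, 4, 2, 4, 1, 4, 2, 4, 3, 0, 3, 4, 2, 4, 3], 0, 5, 1, 1, [([], [])]⟩,
  ⟨[0, 4, 2, 3, 1, 2, 3, 2, 3, 1, 3, 2, 4, 0, 4, 2, 3, 1, 3, 2, 3, 2, 1, 3, 2, 4], 0, 1, 0, 0, [([], [])]⟩,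
  ⟨[0, 3, 0, 4, 2, 4, 1, 2, 3, 1, 4, 2, 4, 0, 3, 0, 4, 2, 4, 1, 3, 2, 1, 4, 2, 4], 0, 3, 3, 3, [([4, 2, 0, 2, 0, 4, 0, 2, 4, 2, 0, 4, 0, 2, 0, 2, 4], [4, 3, 0, 4, 2, 4])]⟩,
  ⟨[0, 2, 4, 2, 3, 0, 4, 0, 4, 0, 3, 0, 4, 3, 4, 0, 3, 0, 4, 0, 4, 0, 3, 2, 4, 2], 0, 1, 0, 3, [([4, 3, 4, 1, 0, 4, 0, 3, 4, 3, 0, 4, 0, 1, 4, 3, 2, 0, 3, 0], [4, 1, 0, 3, 4, 2, 4])]⟩,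
  ⟨[0, 4, 2, 4, 2, 3, 2, 3, 4, 2, 4, 0, 4, 2, 4, 3, 2, 3, 2, 4, 2, 4], 0, 1, 0, 0, [([], [])]⟩,
  ⟨[0, 2, 0, 3, 2, 0, 3, 2, 0, 4, 3, 4, 0, 2, 3, 0, 2, 3, 0, 2, 0, 4, 3, 0, 3, 4], 0, 21, 3, 0, [([0, 1, 4, 1, 2, 3, 0, 2, 0, 2, 4, 0, 1, 4, 3, 2, 0, 3, 2, 1, 0], [4, 0, 2, 3, 0, 4, 0])]⟩,
  ⟨[0, 2, 0, 3, 0, 2, 0, 3, 1, 3, 2, 1, 4, 2, 0, 4, 3, 4, 0, 2, 4, 1, 2, 3, 1, 3], 0, 7, 3, 3, [([0, 2, 0, 3, 0, 3, 0, 4, 0, 2, 4, 3, 0, 1, 3, 2, 1, 0], [4, 0, 3, 4, 1, 2, 0, 2, 0])]⟩,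
  ⟨[0, 1, 2, 4, 2, 3, 2, 3, 4, 2, 1, 0, 4, 0, 1, 2, 4, 3, 2, 3, 2, 4, 2, 1, 0, 4], 0, 25, 4, 4, [([], [])]⟩,
  ⟨[0, 2, 3, 2, 3, 0, 3, 4, 2, 0, 2, 4, 3, 0, 3, 2, 3, 2, 0, 3, 4, 2, 0, 2, 4, 3], 0, 19, 0, 0, [([], [])]⟩,
  ⟨[0, 1, 2, 1, 0, 2, 4, 2, 0, 3, 1, 0, 2, 0, 1, 3, 0, 2, 4, 2, 0, 1, 2, 1, 0, 3], 0, 25, 2, 3, [([0, 3, 0, 1, 0, 3, 4, 0, 2, 1, 3, 4, 3, 0, 4, 3, 1, 2, 4, 0], [4, 1, 0, 3, 4, 2, 4])]⟩,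
  ⟨[0, 1, 3, 1, 0, 2, 4, 2, 0, 1, 3, 1, 0, 2, 4, 2, 0, 1, 3, 1, 0, 2, 4, 2], 0, 5, 3, 4, [([4, 2, 4, 0, 1, 3, 1, 0, 2, 4, 2, 0, 1, 0, 3, 0, 3, 2, 0, 2, 0], [4, 1, 0, 2, 0, 3, 1, 4])]⟩,
  ⟨[0, 1, 0, 1, 0, 1, 3, 0, 2, 4, 2, 0, 3, 1, 0, 1, 0, 1, 0, 3, 0, 2, 4, 2, 0, 3], 0, 19, 4, 4, [([], [])]⟩,
  ⟨[0, 4, 2, 3, 2, 3, 4, 0, 4, 3, 2, 3, 2, 4], 0, 1, 0, 0, [([], [])]⟩,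
  ⟨[0, 2, 3, 0, 3, 2, 4, 3, 2, 0, 3, 4, 3, 0, 2, 3, 4, 2, 3, 0, 3, 2, 0, 4], 0, 23, 4, 4, [([0, 1, 2, 4, 1, 0, 4, 1, 0, 4, 1, 3, 1, 0, 3, 1, 0, 2, 1, 4], [4, 1, 0, 3, 4, 2, 4])]⟩,
  ⟨[1, 2, 3, 2, 3, 1, 3, 2, 4, 1, 4, 2, 3, 1, 3, 2, 3, 2, 1, 3, 2, 4, 1, 4, 2, 3], 0, 19, 1, 1, [([], [])]⟩,
  ⟨[0, 3, 4, 3, 4, 3, 4, 3, 4, 3, 4, 0, 4, 3, 4, 3, 4, 3, 4, 3, 4, 3], 0, 1, 0, 0, [([], [])]⟩,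
  ⟨[0, 2, 4, 2, 0, 2, 4, 2, 0, 3, 2, 3, 4, 2, 0, 2, 4, 2, 0, 2, 4, 3, 2, 3], 0, 9, 0, 4, [([4, 2, 4, 0, 2, 4, 2, 0, 2, 4, 0, 2, 0], [4, 1, 0, 3, 4, 2, 4])]⟩,
  ⟨[0, 2, 4, 2, 0, 2, 4, 3, 4, 2, 0, 2, 4, 2, 0, 3, 0, 3, 2, 4, 2, 3, 0, 3], 0, 15, 3, 4, [([0, 3, 4, 3, 0, 4, 2, 0, 2, 3, 0, 3, 4, 2, 0, 3, 2, 0], [4, 1, 0, 3, 4, 2, 4])]⟩,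
  ⟨[0, 1, 3, 4, 1, 4, 3, 1, 0, 2, 3, 2, 3, 0, 1, 3, 4, 1, 4, 3, 1, 0, 3, 2, 3, 2], 0, 9, 1, 1, [([], [])]⟩,
  ⟨[0, 2, 0, 2, 4, 0, 3, 4, 0, 3, 0, 4, 3, 0, 4, 2, 0, 2, 0, 4, 2, 0, 2, 4], 0, 19, 3, 0, [([0, 2, 3, 4, 0, 1, 2, 1, 2, 0, 2, 4, 2, 0, 2, 1, 0, 2, 0], [4, 1, 0, 3, 4, 2, 4])]⟩,
  ⟨[0, 2, 0, 4, 3, 4, 2, 3, 0, 4, 2, 0, 3, 4, 3, 0, 2, 4, 0, 3, 2, 4, 3, 4], 0, 3, 2, 4, [([0, 1, 0, 2, 4, 2, 0, 1, 2, 0, 2, 4, 2, 0, 1, 2, 4, 3, 4, 2, 0], [4, 0, 4, 1, 3, 0, 2, 4])]⟩,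
  ⟨[0, 2, 0, 4, 0, 2, 0, 4, 2, 3, 2, 4, 0, 2, 0, 4, 0, 2, 0, 4, 2, 3, 2, 4], 0, 7, 4, 4, [([0, 4, 0, 2, 0, 3, 0, 2, 0, 4, 0], [4, 0, 2, 4, 3, 0, 4])]⟩,
  ⟨[0, 2, 0, 4, 2, 4, 0, 2, 0, 4, 3, 4, 3, 0, 4, 2, 0, 2, 4, 0, 3, 4, 3, 4], 0, 9, 2, 0, [([4, 0, 4, 3, 0, 2, 4, 0, 2, 0, 4, 2, 0], [4, 0, 2, 4, 0, 4, 2, 0])]⟩,
  ⟨[1, 2, 1, 2, 1, 2, 1, 2, 4, 2, 1, 2, 4, 2, 1, 2, 1, 2, 1, 2, 1, 4, 2, 1, 2, 4], 0, 21, 1, 1, [([], [])]⟩,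
  ⟨[0, 3, 4, 2, 4, 3, 0, 3, 4, 2, 4, 3], 0, 7, 2, 2, [([4, 3, 0, 3, 4], [4, 1, 2, 4, 3])]⟩,
  ⟨[0, 2, 3, 2, 3, 0, 2, 4, 1, 4, 1, 4, 2, 0, 3, 2, 3, 2, 0, 2, 4, 1, 4, 1, 4, 2], 0, 19, 4, 4, [([], [])]⟩,
  ⟨[0, 3, 2, 4, 2, 4, 0, 3, 4, 3, 0, 4, 2, 4, 2, 3, 0, 3, 4, 0, 4, 2, 4, 0, 4, 3], 0, 17, 4, 2, [([1, 0, 2, 1, 4, 2, 4, 0, 4, 3, 2, 1, 3, 1, 0, 3, 2, 1, 4, 0], [4, 1, 4, 0, 4, 2, 3, 0, 1])]⟩,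
  ⟨[0, 1, 2, 3, 1, 3, 4, 0, 4, 3, 0, 3, 4, 0, 4, 3, 1, 3, 2, 1, 0, 3, 2, 4, 2, 3], 0, 21, 0, 4, [([4, 2, 4, 0, 2, 4, 0, 1, 3, 2, 1, 4, 2, 4, 3, 0, 2, 0, 4], [4, 1, 3, 4, 0, 3, 1, 0, 3])]⟩,
  ⟨[0, 2, 0, 4, 0, 4, 2, 3, 4, 0, 3, 2, 4, 2, 3, 0, 4, 3, 2, 4, 0, 4], 0, 3, 2, 4, [([4, 2, 4, 3, 0, 4, 3, 2, 4, 0, 4, 0], [4, 1, 0, 3, 4, 2, 4])]⟩,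
  ⟨[0, 2, 1, 3, 4, 3, 1, 2, 0, 2, 3, 2, 3, 0, 2, 1, 3, 4, 3, 1, 2, 0, 3, 2, 3, 2], 0, 9, 4, 4, [([], [])]⟩,
  ⟨[0, 2, 3, 2, 3, 0, 4, 3, 2, 1, 2, 3, 4, 0, 3, 2, 3, 2, 0, 4, 3, 2, 1, 2, 3, 4], 0, 19, 1, 1, [([], [])]⟩,
  ⟨[0, 2, 4, 3, 2, 4, 1, 3, 4, 3, 1, 4, 2, 3, 4, 2, 0, 3, 4, 1, 3, 1, 4, 3], 0, 17, 4, 3, [([3], []), ([4, 0, 1, 2, 1, 0, 4, 2, 1, 3, 4, 0, 4, 2, 0, 3, 1, 3, 2, 4, 0], [4, 1, 3, 4, 0, 3, 1, 0])]⟩,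
  ⟨[0, 1, 4, 2, 3, 2, 3, 4, 1, 0, 3, 0, 3, 0, 1, 4, 3, 2, 3, 2, 4, 1, 0, 3, 0, 3], 0, 23, 0, 0, [([], [])]⟩,
  ⟨[0, 3, 4, 1, 4, 2, 3, 2, 3, 4, 1, 4, 3, 0, 3, 4, 1, 4, 3, 2, 3, 2, 4, 1, 4, 3], 0, 1, 0, 0, [([], [])]⟩,
  ⟨[0, 1, 2, 3, 1, 0, 4, 0, 2, 1, 2, 0, 4, 0, 1, 3, 2, 1, 0, 4, 0, 3, 1, 3, 0, 4], 0, 19, 1, 1, [([0, 2, 0, 2, 1, 0, 3, 0, 2, 3, 0, 3, 2, 0, 2, 1, 3, 0, 2, 0], [])]⟩]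

/-- The relators used. -/
def crels : List (List Nat) := [[0, 0], [1, 1], [2, 2], [3, 3], [0, 1, 2, 0, 2, 1, 2, 0, 1, 2, 1, 2, 0, 2, 1, 2, 0, 2, 1, 0, 2, 1, 2], [0, 1, 2, 0, 1, 2, 0, 2, 1, 0, 2, 0, 1, 2, 0, 1, 2, 0, 2, 1, 0, 2], [0, 1, 2, 1, 2, 1, 2, 1, 0, 2, 0, 2, 0, 2, 0, 2], [0, 1, 0, 1, 0, 2, 1, 2, 1, 2, 1, 2], [0, 1, 0, 1, 0, 2, 0, 1, 2, 3, 1, 2, 0, 3, 2, 0, 3, 2, 0, 1, 3, 2], [0, 1, 0, 2, 1, 2, 0, 1, 2, 3, 1, 3, 0, 1, 3, 1, 0, 3, 1, 3, 2], [0, 1, 2, 1, 2, 0, 3, 1, 2, 3, 1, 0, 1, 3, 1, 0, 3, 1, 3, 2, 1], [0, 1, 2, 1, 2, 0, 3, 2, 1, 0, 3, 0, 2, 1, 2, 0, 3, 0, 1, 2, 3], [0, 1, 2, 3, 1, 0, 2, 0, 2, 3, 0, 3, 0, 2, 0, 3, 0, 3,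 2, 0, 2], [1, 3, 1, 3, 1, 3, 1, 3], [2, 3, 2, 3], [4, 4], [2, 4, 2, 4, 2, 4, 2, 4, 2, 4]] ++ pals.map Pal.w

end CfsgLib.Coset.Ru.Schur
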