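import Cfsg.Agent.Coset.Blocks
import Cfsg.Agent.Coset.Ru.Schur.RelData
import Cfsg.Agent.Coset.Ru.Schur.StepData
import Cfsg.Agent.Coset.Ru.Schur.CovData

set_option autoImplicit false
set_option maxRecDepth 100000
set_option Elab.async false

namespace CfsgLib.Coset.Ru.Schur.Cov

theorem hsteps8 : belowBlock 6 1746 (chunkAt E id R 5 44890 C) 8 = true := by decide +kernel
theorem hsteps9 : belowBlock 6 1746 (chunkAt E id R 5 44890 C) 9 = true := by decide +kernel
theorem hsteps10 : belowBlock 6 1746 (chunkAt E id R 5 44890 C) 10 = true := by decide +kernel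
theorem hsteps11 : belowBlock 6 1746 (chunkAt E id R 5 44890 C) 11 = true := by decide +kernel
theorem hsteps12 : belowBlock 6 1746 (chunkAt E id R 5 44890 C) 12 = true := by decide +kernel
theorem hsteps13 : belowBlock 6 1746 (chunkAt E id R 5 44890 C) 13 = true := by decide +kernel
theorem hsteps14 : belowBlock 6 1746 (chunkAt E id R 5 44890 C) 14 = true := by decide +kernel
theorem hsteps15 : belowBlock 6 1746 (chunkAt E id R 5 44890 C) 15 = true := by decide +kernel

end CfsgLib.Coset.Ru.Schur.Cov
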