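import Cfsg.Agent.Coset.Ru.Schur.CovSteps0
import Cfsg.Agent.Coset.Ru.Schur.CovSteps1
import Cfsg.Agent.Coset.Ru.Schur.CovSteps2
import Cfsg.Agent.Coset.Ru.Schur.CovSteps3
import Mathlib.Tactic.IntervalCases

/-! The coset table with 16240 cosets. -/

set_option autoImplicit false
set_option maxRecDepth 100000
set_option Elab.async false

namespace CfsgLib.Coset.Ru.Schur.Cov

theorem hsteps : checkChunks E id R 5 (6 + 5) 44890 1746 C = true :=
  checkChunks_of_blocks (by decide +kernel) fun b hb => by
    have : b < 32 := hb
    interval_cases b
    · exact hsteps0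
    · exact hsteps1
    · exact hsteps2
    · exact hsteps3
    · exact hsteps4
    · exact hsteps5
    · exact hsteps6
    · exact hsteps7
    · exact hsteps8
    · exact hsteps9
    · exact hsteps10
    · exact hsteps11
    · exact hsteps12
    · exact hsteps13
    · exact hsteps14
    · exact hsteps15
    · exact hsteps16
    · exact hsteps17
    · exact hsteps18
    · exact hsteps19
    · exact hsteps20
    · exact hsteps21
    · exact hsteps22
    · exact hsteps23
    · exact hsteps24
    · exact hsteps25
    · exact hsteps26
    · exact hsteps27
    · exact hsteps28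
    · exact hsteps29
    · exact hsteps30
    · exact hsteps31

theorem htable0 : belowBlock 11 16240 (tableAt E id (44890 + chunk * 1746) 16240 5 3 Rep Ref Tb) 0 = true := by decide +kernel
theorem htable1 : belowBlock 11 16240 (tableAt E id (44890 + chunk * 1746) 16240 5 3 Rep Ref Tb) 1 = true := by decide +kernel
theorem htable2 : belowBlock 11 16240 (tableAt E id (44890 + chunk * 1746) 16240 5 3 Rep Ref Tb) 2 = true := by decide +kernel
theorem htable3 : belowBlock 11 16240 (tableAt E id (44890 + chunk * 1746) 16240 5 3 Rep Ref Tb) 3 = true := by decide +kernel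
theorem htable4 : belowBlock 11 16240 (tableAt E id (44890 + chunk * 1746) 16240 5 3 Rep Ref Tb) 4 = true := by decide +kernel
theorem htable5 : belowBlock 11 16240 (tableAt E id (44890 + chunk * 1746) 16240 5 3 Rep Ref Tb) 5 = true := by decide +kernel
theorem htable6 : belowBlock 11 16240 (tableAt E id (44890 + chunk * 1746) 16240 5 3 Rep Ref Tb) 6 = true := by decide +kernel
theorem htable7 : belowBlock 11 16240 (tableAt E id (44890 + chunk * 1746) 16240 5 3 Rep Ref Tb) 7 = true := by decide +kernel

theorem htable : checkTable E id (44890 + chunk * 1746) 16240 5 (11 + 3) 3 Rep Ref Tb = true :=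
  checkTable_of_blocks (by decide +kernel) (by decide +kernel) fun b hb => by
    have : b < 8 := hb
    interval_cases b
    · exact htable0
    · exact htable1
    · exact htable2
    · exact htable3
    · exact htable4
    · exact htable5
    · exact htable6
    · exact htable7

end CfsgLib.Coset.Ru.Schur.Cov
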