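/-!
Words carrying the four involutions into the Tits group.
-/

namespace CfsgLib.Coset.Ru.Schur

/-- Three elements as words in the generators of the Tits group. -/
def threeW : List (List Nat) := [[2, 1, 7, 4, 6, 2, 4, 2, 7, 1, 2, 7, 7, 0, 0, 4, 1, 6, 7, 5, 4, 3, 5, 4, 5, 6, 7, 0, 2, 1, 7, 4, 6, 2, 4, 2, 7, 1, 2, 7, 7, 0, 0, 4, 1, 6, 7, 5, 4, 3, 5, 4, 5, 6, 7, 0], [1, 6, 5, 0, 7, 3, 6, 7, 2, 0, 5, 1, 5, 2, 1, 6, 5, 0, 7, 3, 6, 7, 2, 0, 5, 1, 5, 2], [1, 6, 5, 0, 7, 3, 6, 7, 2, 0, 5, 1, 5, 2, 1, 6, 5, 0, 7, 3, 6, 7, 2, 0, 5, 1, 5, 2, 1, 6, 5, 0, 7, 3, 6, 7, 2, 0, 5, 1, 5, 2, 1, 6, 5, 0, 7, 3, 6, 7, 2, 0, 5, 1, 5, 2]]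

/-- The images as words in the three elements. -/
def imgW : List (List Nat) := [[2, 0, 2, 0, 2, 0, 2, 0, 1, 0, 1, 0, 1, 0, 1, 0, 2, 0, 2, 0, 2, 0, 1, 0, 1, 0, 2, 0, 2, 0, 2, 0, 1, 0, 1, 0, 2, 0, 1, 0, 1, 0, 1, 0, 1, 0, 1, 0, 2, 0, 2, 0, 2, 0], [1, 0, 2, 0, 1, 0, 2, 0, 2, 0, 1, 0, 1, 0, 1, 0, 2, 0, 1, 0, 1, 0, 2, 0, 1, 0, 1, 0, 2, 0, 1, 0, 1, 0, 1, 0, 2, 0, 2, 0, 1, 0, 1, 0, 1, 0, 1, 0, 1, 0, 2, 0, 2], [0, 2, 0, 2, 0, 2, 0, 2, 0, 1, 0, 1, 0, 2, 0, 2, 0, 2, 0, 2, 0, 2, 0, 1, 0, 2, 0, 2, 0, 2, 0, 1, 0, 2, 0, 2, 0, 2, 0, 1, 0, 2, 0, 2, 0, 1, 0, 1, 0], [1, 0, 2, 0, 2, 0, 2, 0, 2, 0, 2, 0, 1, 0, 1, 0, 1, 0, 2, 0, 1, 0, 1, 0, 2, 0, 1, 0, 2, 0, 2, 0, 1, 0, 2, 0, 2, 0, 2, 0, 2, 0, 1, 0, 1, 0, 1,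 0, 2]]

end CfsgLib.Coset.Ru.Schur
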