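import Cfsg.Agent.Coset.Ru.Tits
import Cfsg.Agent.Coset.Ru.Schur.TitsIsoData
import Cfsg.Agent.TitsMult.Trivial

/-!
The presented group on four involutions is the Tits group, so its stem extensions are trivial.
-/

set_option autoImplicit false
set_option maxRecDepth 100000
set_option Elab.async false

namespace CfsgLib.Coset.Ru.Schur

open CfsgLib.Coset CfsgLib.CentralCert Cfsg.Lie

/-- The three elements. -/
noncomputable def L3 : List TitsGroup := threeW.map (CfsgLib.ExtCert.ev TitsMult.baseT)

/-- Their codes. -/
def c3 : List ℕ := threeW.map (tab TitsMult.one TitsMult.mul TitsMult.base)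

/-- A product of codes. -/
def codeEv (C : List ℕ) : List ℕ → ℕ
  | [] => TitsMult.one
  | l :: w => TitsMult.mul (C.getD l TitsMult.one) (codeEv C w)

theorem codes_check :
    (rels4.all (fun w => decide (codeEv (imgW.map (codeEv c3)) w = TitsMult.one)) &&
      !decide (codeEv (imgW.map (codeEv c3)) [0] = TitsMult.one) && decide (imgW.length = 4)) =
      true := by decide +kernel

attribute [local irreducible] tab TitsMult.mul TitsMult.one TitsMult.base TitsMult.baseT
  TitsMult.gcode codeEv

theorem enc_three (w : List Nat) : TitsMult.model.enc (ev L3 w) = codeEv c3 w := by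
  induction w with
  | nil => rw [ev_nil, TitsMult.model.enc_one]; unfold codeEv; rfl
  | cons l w ih =>
    rw [ev_cons, TitsMult.model.enc_mul, ih]
    conv_rhs => unfold codeEv
    refine congrArg (fun c => TitsMult.mul c _) ?_
    rw [fl, L3, c3]
    rcases lt_or_ge l threeW.length with hl | hl
    · rw [List.getD_eq_getElem _ _ (by simpa using hl), List.getD_eq_getElem _ _ (by simpa using hl),
        List.getElem_map, List.getElem_map]
      exact TitsMult.model.tab_spec TitsMult.gcode_baseT _
    · rw [List.getD_eq_default _ _ (by simpa using hl), List.getD_eq_default _ _ (by simpa using hl)]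
      exact TitsMult.model.enc_one

/-- The images of the generators. -/
noncomputable def Limg : List TitsGroup := imgW.map (ev L3)

theorem enc_img (w : List Nat) :
    TitsMult.model.enc (ev Limg w) = codeEv (imgW.map (codeEv c3)) w := by
  induction w with
  | nil => rw [ev_nil, TitsMult.model.enc_one]; unfold codeEv; rfl
  | cons l w ih =>
    rw [ev_cons, TitsMult.model.enc_mul, ih]
    conv_rhs => unfold codeEv
    refine congrArg (fun c => TitsMult.mul c _) ?_
    rw [fl, Limg]
    rcases lt_or_ge l imgW.length with hl | hl
    · rw [List.getD_eq_getElem _ _ (by simpa using hl), List.getD_eq_getElem _ _ (by simpa using hl),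
        List.getElem_map, List.getElem_map]
      exact enc_three _
    · rw [List.getD_eq_default _ _ (by simpa using hl), List.getD_eq_default _ _ (by simpa using hl)]
      exact TitsMult.model.enc_one

theorem img_rels : ∀ w ∈ rels4, ev Limg w = 1 := by
  intro w hw
  have h := codes_check
  simp only [Bool.and_eq_true, List.all_eq_true, decide_eq_true_eq] at h
  refine TitsMult.model.inj ?_
  rw [enc_img, h.1.1 w hw]
  exact TitsMult.model.enc_one.symm

theorem len_img : Limg.length = 4 := by
  have h := codes_check
  simp only [Bool.and_eq_true, decide_eq_true_eq] at h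
  rw [Limg, List.length_map, h.2]

/-- The map to the Tits group. -/
noncomputable def toTits : Q →* TitsGroup := numHom len_img img_rels

theorem nonempty_tits_equiv : Nonempty (Q ≃* TitsGroup) := by
  haveI := card_Q_le.1
  haveI : Finite TitsGroup :=
    Nat.finite_of_card_ne_zero (TitsMult.tits_group_facts.2.1.trans_ne (by norm_num))
  have := isSimple_Q
  have hinj : Function.Injective toTits := by
    rcases toTits.normal_ker.eq_bot_or_eq_top with h | h
    · exact (MonoidHom.ker_eq_bot_iff toTits).mp h
    · exfalso
      have h1 : toTits (fl Lq 0) = 1 := MonoidHom.mem_ker.mp (h ▸ Subgroup.mem_top _)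
      rw [toTits, numHom_fl] at h1
      have h2 := enc_img [0]
      rw [ev_cons, ev_nil, mul_one, h1, TitsMult.model.enc_one] at h2
      have h3 := codes_check
      simp only [Bool.and_eq_true, Bool.not_eq_true', decide_eq_false_iff_not] at h3
      exact h3.1.2 h2.symm
  have hT : Nat.card TitsGroup = 2 ^ 11 * 8775 := TitsMult.tits_group_facts.2.1
  exact ⟨MulEquiv.ofBijective toTits
    (hinj.bijective_of_nat_card_le (by rw [hT, card_Q.1]; norm_num))⟩

/-- A stem extension of the group on four involutions is trivial. -/
theorem ker_eq_bot_Q {Γ : Type} [Group Γ] [Finite Γ] {σ : Γ →* Q}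
    (hs : Cfsg.IsStemExtension σ) : σ.ker = ⊥ := by
  obtain ⟨e⟩ := nonempty_tits_equiv
  have hk : (e.toMonoidHom.comp σ).ker = σ.ker := MonoidHom.ker_mulEquiv_comp _ e
  obtain ⟨π, hπ⟩ := TitsMult.hasCyclicSchurMultiplier.2 Γ (e.toMonoidHom.comp σ)
    ⟨e.surjective.comp hs.1, hk ▸ hs.2.1, hk ▸ hs.2.2⟩
  haveI : Subsingleton (Multiplicative (ZMod 1)) := Multiplicative.toAdd.injective.subsingleton
  rw [← hk, eq_bot_iff]
  intro x hx
  obtain ⟨a, ha⟩ := hπ ⟨x, hx⟩
  rw [Subsingleton.elim a 1, map_one] at ha
  exact Subgroup.mem_bot.mpr (congrArg Subtype.val ha).symm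

end CfsgLib.Coset.Ru.Schur
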