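import Cfsg.Agent.Coset.Ru.Main
import Cfsg.Agent.Coset.Ru.Schur.TitsIso
import Cfsg.Agent.Coset.Ru.Schur.Cov
import Cfsg.Agent.Multiplier.Reduce
import Cfsg.Agent.Schur.Exponent

/-!
A stem extension of the presented Rudvalis group has kernel of order at most two: the Tits subgroup
lifts, the conjugates of an involution of it have well-defined lifts, and the relations between
them give a coset table with 16240 cosets.
-/

set_option autoImplicit false
set_option maxRecDepth 100000
set_option Elab.async false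

namespace CfsgLib.Coset.Ru.Schur

open CfsgLib.Coset
open scoped commutatorElement

theorem base_bot : baseStab ρ [(0 : Fin 4060), 1, 3, 2] = ⊥ := by
  have := card_P_le.1
  refine baseStab_eq_bot (by decide) card_P_le.2 _ ?_
  have h4 : Nat.card (baseStab ρ [(0 : Fin 4060), 1, 3, 2]) ≤
      Nat.card (baseStab ρ [(0 : Fin 4060), 1, 3, 2]) := le_rfl
  have h3 := orbit_step matches_ρ (base := [(0 : Fin 4060), 1, 3]) (β := 2) (m := 16) (dm := 4)
    (gens := Orb.B3G) (P := Orb.B3P) (Inv := Orb.B3Inv)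
    (by decide +kernel) (by decide +kernel) (by decide +kernel) h4
  have h2 := orbit_step matches_ρ (base := [(0 : Fin 4060), 1]) (β := 3) (m := 975) (dm := 10)
    (gens := Orb.B2G) (P := Orb.B2P) (Inv := Orb.B2Inv)
    (by decide +kernel) (by decide +kernel) (by decide +kernel) h3
  have h1 := orbit_step matches_ρ (base := [(0 : Fin 4060)]) (β := 1) (m := 2304) (dm := 12)
    (gens := Orb.B1G) (P := Orb.B1P) (Inv := Orb.B1Inv)
    (by decide +kernel) (by decide +kernel) (by decide +kernel) h2
  have h0 := orbit_step matches_ρ (base := []) (β := 0) (m := 4060) (dm := 12)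
    (gens := Orb.B0G) (P := Orb.B0P) (Inv := Orb.B0Inv)
    (by decide +kernel) (by decide +kernel) (by decide +kernel) h1
  have he : Nat.card (baseStab ρ ([] : List (Fin 4060))) = Nat.card P := by simp [baseStab]
  rw [he] at h0
  simpa [← mul_assoc] using h0

/-- Equality of two words in the group. -/
noncomputable def sameP (v w : List Nat) : Bool :=
  cond (checkLetters 5 [v]) (cond (checkLetters 5 [w])
    (allList (fun b => Nat.beq (follow (tget Pts.Tb) b v) (follow (tget Pts.Tb) b w)) [0, 1, 3, 2])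
    false) false

theorem sameP_eq {v w : List Nat} (h : sameP v w = true) : ev Lp v = ev Lp w := by
  obtain ⟨h1, h2⟩ := cond_false_eq_true.mp h
  obtain ⟨h2, h3⟩ := cond_false_eq_true.mp h2
  exact matches_ρ.ev_eq_of_base base_bot (by rw [len_Lp]; exact h1) (by rw [len_Lp]; exact h2) h3

/-- The subgroup word test. -/
noncomputable def inSub (w : List Nat) : Bool :=
  cond (checkLetters 5 [w]) (Nat.beq (follow (tget Top.Tb) 0 w) 0) false

/-- The Tits subgroup. -/
noncomputable abbrev K : Subgroup P := genW Lp Top.subs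

theorem ev_mem_closureL {G : Type*} [Group G] (L : List G) :
    ∀ w : List Nat, ev L w ∈ Subgroup.closure {x | x ∈ L}
  | [] => by simp
  | l :: w => by rw [ev_cons]; exact mul_mem (mem_closure_fl l) (ev_mem_closureL L w)

theorem inSub_mem {w : List Nat} (h : inSub w = true) : ev Lp w ∈ K := by
  obtain ⟨h1, h2⟩ := cond_false_eq_true.mp h
  refine top_table.ev_mem (by decide) ?_ (Nat.eq_of_beq_eq_true h2)
  intro l hl
  rw [len_Lp]
  exact letters_lt h1 w (List.mem_singleton_self _) l hl

/-- The first palindrome's conjugating word. -/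
def Pal.U (p : Pal) : List Nat :=
  ((p.w.drop p.r ++ p.w.take p.r).take (p.a / 2)) ++ carry.getD p.m []

/-- The second palindrome's conjugating word. -/
def Pal.V (p : Pal) : List Nat :=
  let x := (p.w.drop p.r ++ p.w.take p.r).drop p.a
  x.take (x.length / 2) ++ carry.getD p.m' []

/-- The relator read as two palindromes. -/
def Pal.form (p : Pal) : List Nat :=
  let x := p.w.drop p.r ++ p.w.take p.r
  let u := x.take (p.a / 2)
  let y := x.drop p.a
  let v := y.take (y.length / 2)
  (u ++ [p.m] ++ u.reverse) ++ (v ++ [p.m'] ++ v.reverse)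

/-- The tests of a relator. -/
noncomputable def Pal.ok (p : Pal) : Bool :=
  decide (p.form = p.w.drop p.r ++ p.w.take p.r) && Nat.blt p.m 5 && Nat.blt p.m' 5 &&
    sameP (p.V.reverse ++ p.U) (p.fac.flatMap Prod.fst) &&
    p.fac.all fun f => sameP (f.1 ++ [2]) (2 :: f.1) &&
      inSub (f.2 ++ [2] ++ f.2.reverse) && inSub (f.2 ++ f.1 ++ f.2.reverse)

theorem pals_ok : pals.all Pal.ok = true := by decide +kernel

theorem low_rels : rels4.all (fun w => w.all fun l => Nat.blt l 4) = true := by decide +kernel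

theorem carry_low : ∀ m < 4, (carry.getD m []).all (fun l => Nat.blt l 4) = true ∧
    sameP (carry.getD m [] ++ [2] ++ (carry.getD m []).reverse) [m] = true := by
  decide +kernel

theorem carry_four : carry.getD 4 [] = [2, 4, 2, 4] ∧
    sameP ([2, 4, 2, 4] ++ [2] ++ [4, 2, 4, 2]) [4] = true := by
  decide +kernel

theorem crels_eq : crels = rels4 ++ [[4, 4], [2, 4, 2, 4, 2, 4, 2, 4, 2, 4]] ++ pals.map Pal.w := by
  decide +kernel

section Bound

variable {Γ : Type} [Group Γ] [Finite Γ] {σ : Γ →* P}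

theorem perfect_K : ⁅K, K⁆ = K := by
  have hQ : commutator Q = ⊤ := by
    have := isSimple_Q
    rcases Subgroup.Normal.eq_bot_or_eq_top (inferInstance : (commutator Q).Normal) with h | h
    · exfalso
      obtain ⟨e⟩ := nonempty_tits_equiv
      have hab : ∀ a b : Q, a * b = b * a := fun a b => by
        have hm := Subgroup.commutator_mem_commutator (H₁ := (⊤ : Subgroup Q)) (H₂ := ⊤)
          (Subgroup.mem_top a) (Subgroup.mem_top b)
        rwa [← _root_.commutator_def, h, Subgroup.mem_bot,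
          commutatorElement_eq_one_iff_mul_comm] at hm
      have hne : ev Lq [0, 2] ≠ ev Lq [2, 0] := by
        intro he
        have hl : ∀ w ∈ [[0, 2], [2, 0]], ∀ l ∈ w, l < (Lq).length := by
          rw [len_Lq]; decide
        have key : ∀ i : Fin 1755,
            follow (tget Pts55.Tb) i [0, 2] = follow (tget Pts55.Tb) i [2, 0] := fun i => by
          rw [← matches_σ.follow_eq [0, 2] i (hl _ (by simp)),
            ← matches_σ.follow_eq [2, 0] i (hl _ (by simp)), he]
        have hd : allList (fun b => Nat.beq (follow (tget Pts55.Tb) b [0, 2])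
            (follow (tget Pts55.Tb) b [2, 0])) [0, 5, 1] = false := by decide +kernel
        have ht : allList (fun b => Nat.beq (follow (tget Pts55.Tb) b [0, 2])
            (follow (tget Pts55.Tb) b [2, 0])) [0, 5, 1] = true := by
          rw [allList_iff]
          intro b hb
          have hb' : b < 1755 := by
            revert b; decide
          rw [key ⟨b, hb'⟩]
          exact Nat.beq_refl _
        rw [hd] at ht
        exact Bool.noConfusion ht
      exact hne (by simpa using hab (fl Lq 0) (fl Lq 2))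
    · exact h
  rw [K, ← range_ψ, MonoidHom.range_eq_map, ← Subgroup.map_commutator, ← _root_.commutator_def, hQ]

/-- The derived group of the preimage of the Tits subgroup. -/
noncomputable def D (σ : Γ →* P) : Subgroup Γ := ⁅K.comap σ, K.comap σ⁆

theorem map_D (hs : Cfsg.IsStemExtension σ) : (D σ).map σ = K := by
  rw [D, Subgroup.map_commutator, Subgroup.map_comap_eq_self_of_surjective hs.1, perfect_K]

theorem D_inf_ker (hs : Cfsg.IsStemExtension σ) : ∀ x ∈ D σ, σ x = 1 → x = 1 := by
  have hmem : ∀ x : D σ, σ x ∈ ψ.range := fun x => by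
    rw [range_ψ]
    have hx := Subgroup.mem_map_of_mem σ x.2
    rwa [map_D hs] at hx
  let τ : D σ →* Q :=
    (MonoidHom.ofInjective ψ_injective).symm.toMonoidHom.comp
      ((σ.comp (D σ).subtype).codRestrict ψ.range hmem)
  have hk : ∀ x : D σ, x ∈ τ.ker ↔ (x : Γ) ∈ σ.ker := fun x => by
    rw [MonoidHom.mem_ker, MonoidHom.mem_ker]
    exact (MonoidHom.ofInjective ψ_injective).symm.map_eq_one_iff.trans Subtype.ext_iff
  have hperf : ∀ a ∈ K.comap σ, ∀ b ∈ K.comap σ, ⁅a, b⁆ ∈ ⁅D σ, D σ⁆ := by
    intro a ha b hb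
    have hsplit : ∀ a ∈ K.comap σ, ∃ d ∈ D σ, ∃ z ∈ Subgroup.center Γ, a = d * z := by
      intro a ha
      obtain ⟨d, hd, he⟩ : σ a ∈ (D σ).map σ := (map_D hs).symm ▸ ha
      exact ⟨d, hd, d⁻¹ * a, hs.2.1 (by rw [MonoidHom.mem_ker, map_mul, map_inv, he,
        inv_mul_cancel]), (mul_inv_cancel_left d a).symm⟩
    obtain ⟨d, hd, z, hz, rfl⟩ := hsplit a ha
    obtain ⟨c, hc, w, hw, rfl⟩ := hsplit b hb
    rw [CfsgLib.Schur.commutator_mul_central hz hw]
    exact Subgroup.commutator_mem_commutator hd hc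
  have hτ : Cfsg.IsStemExtension τ := by
    refine ⟨(MonoidHom.ofInjective ψ_injective).symm.surjective.comp fun y => ?_, fun x hx => ?_,
      fun x _ => ?_⟩
    · obtain ⟨x, hx, hxy⟩ : y.1 ∈ (D σ).map σ := by
        rw [map_D hs, K, ← range_ψ]; exact y.2
      exact ⟨⟨x, hx⟩, Subtype.ext hxy⟩
    · exact Subgroup.mem_center_iff.mpr fun y => Subtype.ext
        (Subgroup.mem_center_iff.mp (hs.2.1 ((hk x).mp hx)) y)
    · have hle : D σ ≤ (commutator (D σ)).map (D σ).subtype := by
        rw [_root_.commutator_def, Subgroup.map_commutator, ← MonoidHom.range_eq_map,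
          Subgroup.range_subtype]
        exact Subgroup.commutator_le.mpr hperf
      obtain ⟨y, hy, hyx⟩ := hle x.2
      rwa [← Subtype.ext hyx]
  intro x hx h1
  have h := (hk ⟨x, hx⟩).mpr (MonoidHom.mem_ker.mpr h1)
  rw [ker_eq_bot_Q hτ, Subgroup.mem_bot] at h
  exact congrArg Subtype.val h

/-- Lifts of an element of the subgroup and of one commuting with it commute, after conjugation. -/
theorem lifts_commute (hs : Cfsg.IsStemExtension σ) {R x y : Γ}
    (hx : σ (R * x * R⁻¹) ∈ K) (hy : σ (R * y * R⁻¹) ∈ K) (hxy : σ x * σ y = σ y * σ x) :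
    x * y = y * x := by
  obtain ⟨a, ha, ha'⟩ : σ (R * x * R⁻¹) ∈ (D σ).map σ := (map_D hs).symm ▸ hx
  obtain ⟨b, hb, hb'⟩ : σ (R * y * R⁻¹) ∈ (D σ).map σ := (map_D hs).symm ▸ hy
  have hab : a * b = b * a := by
    have h := D_inf_ker hs (a * b * a⁻¹ * b⁻¹)
      (mul_mem (mul_mem (mul_mem ha hb) (inv_mem ha)) (inv_mem hb)) (by
        simp only [map_mul, map_inv, ha', hb']
        calc σ R * σ x * (σ R)⁻¹ * (σ R * σ y * (σ R)⁻¹) * (σ R * σ x * (σ R)⁻¹)⁻¹ *
              (σ R * σ y * (σ R)⁻¹)⁻¹ = σ R * (σ x * σ y) * (σ x)⁻¹ * (σ y)⁻¹ * (σ R)⁻¹ := by group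
          _ = 1 := by rw [hxy]; group)
    rw [mul_inv_eq_one, mul_inv_eq_iff_eq_mul] at h
    exact h
  have hz : ∀ {u v : Γ}, σ u = σ v → ∃ z ∈ Subgroup.center Γ, v = u * z := fun {u v} h =>
    ⟨u⁻¹ * v, hs.2.1 (by rw [MonoidHom.mem_ker, map_mul, map_inv, h, inv_mul_cancel]),
      (mul_inv_cancel_left u v).symm⟩
  obtain ⟨z, hzc, hz'⟩ := hz ha'
  obtain ⟨w, hwc, hw'⟩ := hz hb'
  have e : (R * x * R⁻¹) * (R * y * R⁻¹) = (R * y * R⁻¹) * (R * x * R⁻¹) := by
    rw [hz', hw']
    have h1 := Subgroup.mem_center_iff.mp hzc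
    have h2 := Subgroup.mem_center_iff.mp hwc
    calc a * z * (b * w) = a * (z * b) * w := by group
      _ = a * b * (z * w) := by rw [← h1 b]; group
      _ = b * a * (w * z) := by rw [hab, h2 z]
      _ = b * (a * w) * z := by group
      _ = b * w * (a * z) := by rw [h2 a]; group
  calc x * y = R⁻¹ * ((R * x * R⁻¹) * (R * y * R⁻¹)) * R := by group
    _ = R⁻¹ * ((R * y * R⁻¹) * (R * x * R⁻¹)) * R := by rw [e]
    _ = y * x := by group

theorem card_ker_le (hs : Cfsg.IsStemExtension σ) : Nat.card σ.ker ≤ 2 := by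
  have := card_P_le.1
  have hcen : ∀ x ∈ σ.ker, ∀ y, y * x = x * y := fun x hx => Subgroup.mem_center_iff.mp (hs.2.1 hx)
  -- lifts
  have hd : ∀ l : Fin 4, ∃ x ∈ D σ, σ x = fl Lp l := fun l => by
    have hl : fl Lp l ∈ K := by
      have := inSub_mem (w := [(l : Nat)]) ((by decide +kernel :
        ∀ l : Fin 4, inSub [(l : Nat)] = true) l)
      simpa using this
    obtain ⟨d, hd, he⟩ : fl Lp l ∈ (D σ).map σ := (map_D hs).symm ▸ hl
    exact ⟨d, hd, he⟩
  choose A hA hAσ using hd
  obtain ⟨E₀, hE₀⟩ := hs.1 (fl Lp 4)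
  set W₀ : Γ := A 2 * E₀ * A 2 * E₀ with hW₀
  set E : Γ := W₀ * A 2 * W₀⁻¹ with hEdef
  set L : List Γ := [A 0, A 1, A 2, A 3, E] with hLdef
  have hlen : L.length = 5 := rfl
  have hlow : ∀ l : Fin 4, fl L l = A l := by intro l; fin_cases l <;> rfl
  have hD4 : ∀ w : List Nat, (∀ l ∈ w, l < 4) → ev L w ∈ D σ := by
    intro w
    induction w with
    | nil => intro _; simp
    | cons l w ih =>
      intro h
      rw [ev_cons]
      refine mul_mem ?_ (ih fun m hm => h m (by simp [hm]))
      rw [show fl L l = A ⟨l, h l (by simp)⟩ from hlow ⟨l, h l (by simp)⟩]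
      exact hA _
  have hEσ : σ E = fl Lp 4 := by
    have h := sameP_eq carry_four.2
    simp only [ev_cons, ev_nil, mul_one, List.cons_append, List.nil_append] at h
    have hA2 : σ (A 2) = fl Lp 2 := hAσ 2
    rw [hEdef, hW₀]
    simp only [map_mul, map_inv, hA2, hE₀]
    refine Eq.trans ?_ h
    have ic : (fl Lp 2)⁻¹ = fl Lp 2 := inv_eq_of_mul_eq_one_right (sq_p 2)
    have ie : (fl Lp 4)⁻¹ = fl Lp 4 := inv_eq_of_mul_eq_one_right (sq_p 4)
    simp only [mul_inv_rev, ic, ie, mul_assoc]
  have hmap : L.map σ = Lp := by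
    refine List.ext_getElem (by simp [hlen, len_Lp]) fun i h1 h2 => ?_
    rw [List.getElem_map, ← List.getD_eq_getElem Lp 1 h2]
    simp only [List.length_map, hlen] at h1
    interval_cases i
    exacts [hAσ 0, hAσ 1, hAσ 2, hAσ 3, hEσ]
  have hσev : ∀ w, σ (ev L w) = ev Lp w := by
    intro w
    induction w with
    | nil => simp
    | cons l w ih =>
      rw [ev_cons, ev_cons, map_mul, ih]
      congr 1
      rw [show fl Lp l = (L.map σ).getD l 1 from by rw [hmap]; rfl, fl, ← map_one σ, List.getD_map]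
  have hfour : ∀ v w : List Nat, (∀ l ∈ v, l < 4) → (∀ l ∈ w, l < 4) → ev Lp v = ev Lp w →
      ev L v = ev L w := fun v w hv hw h => by
    rw [← mul_inv_eq_one]
    exact D_inf_ker hs _ (mul_mem (hD4 v hv) (inv_mem (hD4 w hw)))
      (by rw [map_mul, map_inv, hσev, hσev, h, mul_inv_cancel])
  have hC2 : A 2 * A 2 = 1 := by
    have := hfour [2, 2] [] (by decide) (by decide) (by simp [sq_p])
    simpa [show fl L 2 = A 2 from rfl] using this
  have hE2 : E * E = 1 := by
    calc E * E = W₀ * (A 2 * A 2) * W₀⁻¹ := by rw [hEdef]; group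
      _ = 1 := by rw [hC2]; group
  have h2 : ∀ x, fl L x * fl L x = 1 := by
    intro x
    rcases lt_or_ge x 4 with hx | hx
    · have := hfour [x, x] [] (by simpa using hx) (by simp) (by simp [sq_p])
      simpa using this
    · rcases eq_or_lt_of_le hx with rfl | hx
      · exact hE2
      · rw [fl_of_le _ (by rw [hlen]; omega), mul_one]
  have hrev : ∀ u, ev L (List.reverse u) = (ev L u)⁻¹ := by
    intro u
    induction u with
    | nil => simp
    | cons k u ih =>
      rw [List.reverse_cons, ev_append, ih, ev_cons, ev_cons, ev_nil, mul_one, mul_inv_rev,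
        inv_eq_of_mul_eq_one_right (h2 k)]
  have hW : ev L [2, 4, 2, 4] * A 2 * (ev L [2, 4, 2, 4])⁻¹ = E := by
    have ht : E⁻¹ * E₀ ∈ σ.ker := by
      rw [MonoidHom.mem_ker, map_mul, map_inv, hEσ, hE₀, inv_mul_cancel]
    set t := E⁻¹ * E₀ with htdef
    have hE0 : E₀ = E * t := by rw [htdef, mul_inv_cancel_left]
    have hc := hcen t ht
    have hW0 : W₀ = A 2 * E * A 2 * E * (t * t) := by
      rw [hW₀, hE0]
      calc A 2 * (E * t) * A 2 * (E * t) = A 2 * E * (t * (A 2 * E)) * t := by group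
        _ = A 2 * E * A 2 * E * (t * t) := by rw [← hc]; group
    have e : ev L [2, 4, 2, 4] = A 2 * E * A 2 * E := by
      simp only [ev_cons, ev_nil, mul_one, mul_assoc]
      rfl
    rw [e]
    symm
    calc E = W₀ * A 2 * W₀⁻¹ := hEdef
      _ = A 2 * E * A 2 * E * ((t * t) * A 2) * (t * t)⁻¹ * (A 2 * E * A 2 * E)⁻¹ := by
          rw [hW0]; group
      _ = A 2 * E * A 2 * E * (A 2 * (t * t)) * (t * t)⁻¹ * (A 2 * E * A 2 * E)⁻¹ := by
          rw [hcen (t * t) (mul_mem ht ht) (A 2)]
      _ = _ := by group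
  -- every generator is a conjugate of the third
  have hcarry : ∀ m < 5, fl L m = ev L (carry.getD m []) * A 2 * (ev L (carry.getD m []))⁻¹ := by
    intro m hm
    rcases Nat.lt_succ_iff_lt_or_eq.mp hm with hm | rfl
    · obtain ⟨hl, hc⟩ := carry_low m hm
      simp only [List.all_eq_true, Nat.blt_eq] at hl
      have hlw : ∀ l ∈ carry.getD m [] ++ [2] ++ (carry.getD m []).reverse, l < 4 := by
        intro l h
        simp only [List.mem_append, List.mem_reverse, List.mem_singleton] at h
        rcases h with (h | h) | h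
        exacts [hl l h, h ▸ by norm_num, hl l h]
      have h := hfour _ [m] hlw (by simpa using hm) (sameP_eq hc)
      rw [ev_append, ev_append, hrev, ev_cons, ev_nil, mul_one, ev_cons, ev_nil, mul_one] at h
      exact h.symm
    · rw [carry_four.1]
      exact hW.symm
  have hpal : ∀ u : List Nat, ∀ m < 5, ev L (u ++ [m] ++ u.reverse) =
      ev L (u ++ carry.getD m []) * A 2 * (ev L (u ++ carry.getD m []))⁻¹ := by
    intro u m hm
    rw [ev_append, ev_append, hrev, ev_cons, ev_nil, mul_one, hcarry m hm, ev_append]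
    group
  have hgood : ∀ g r : List Nat, sameP (g ++ [2]) (2 :: g) = true →
      inSub (r ++ [2] ++ r.reverse) = true → inSub (r ++ g ++ r.reverse) = true →
      A 2 * ev L g = ev L g * A 2 := by
    intro g r hc h1 h2'
    have e1 := inSub_mem h1
    have e2 := inSub_mem h2'
    rw [← hσev, ev_append, ev_append, hrev] at e1 e2
    simp only [ev_cons, ev_nil, mul_one] at e1
    refine lifts_commute hs e1 e2 ?_
    have e3 := sameP_eq hc
    rw [ev_append, ev_cons, ev_nil, mul_one, ev_cons] at e3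
    rw [hσev, show σ (A 2) = fl Lp 2 from hAσ 2]
    exact e3.symm
  have hrel : ∀ w ∈ crels, ev L w = 1 := by
    intro w hw
    rw [crels_eq, List.mem_append, List.mem_append] at hw
    rcases hw with (hw | hw) | hw
    · have hl := List.all_eq_true.mp low_rels w hw
      simp only [List.all_eq_true, Nat.blt_eq] at hl
      have h4 : (rels4.all fun w => rels.contains w) = true := by decide +kernel
      have := hfour w [] hl (by simp) (by
        rw [ev_nil]
        exact ev_numGens _ (List.contains_iff_mem.mp (List.all_eq_true.mp h4 w hw)))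
      simpa using this
    · simp only [List.mem_cons, List.not_mem_nil, or_false] at hw
      rcases hw with rfl | rfl
      · rw [ev_cons, ev_cons, ev_nil, mul_one]
        exact hE2
      · have i2 : (A 2)⁻¹ = A 2 := inv_eq_of_mul_eq_one_right hC2
        have i4 : E⁻¹ = E := inv_eq_of_mul_eq_one_right hE2
        have e := hW
        simp only [ev_cons, ev_nil, mul_one, mul_inv_rev, show fl L 2 = A 2 from rfl,
          show fl L 4 = E from rfl, i2, i4] at e ⊢
        simp only [mul_assoc] at e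
        calc _ = (A 2 * (E * (A 2 * (E * (A 2 * (E * (A 2 * (E * A 2)))))))) * E := by
              simp only [mul_assoc]
          _ = E * E := by rw [e]
          _ = 1 := hE2
    · obtain ⟨p, hp, rfl⟩ := List.mem_map.mp hw
      have h := List.all_eq_true.mp pals_ok p hp
      simp only [Pal.ok, Bool.and_eq_true, decide_eq_true_eq, List.all_eq_true, Nat.blt_eq] at h
      obtain ⟨⟨⟨⟨hform, hm⟩, hm'⟩, hdec⟩, hfac⟩ := h
      have hfacs : ∀ fs : List (List Nat × List Nat), (∀ f ∈ fs, f ∈ p.fac) →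
          A 2 * ev L (fs.flatMap Prod.fst) = ev L (fs.flatMap Prod.fst) * A 2 := by
        intro fs
        induction fs with
        | nil => intro _; simp
        | cons f fs ih =>
          intro hfs
          obtain ⟨⟨hc, h1⟩, h2'⟩ := hfac f (hfs f (by simp))
          rw [List.flatMap_cons, ev_append, ← mul_assoc, hgood f.1 f.2 hc h1 h2', mul_assoc,
            ih fun g hg => hfs g (by simp [hg]), mul_assoc]
      have hcomm : A 2 * ev L (p.V.reverse ++ p.U) = ev L (p.V.reverse ++ p.U) * A 2 := by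
        have hz : (ev L (p.fac.flatMap Prod.fst))⁻¹ * ev L (p.V.reverse ++ p.U) ∈ σ.ker := by
          rw [MonoidHom.mem_ker, map_mul, map_inv, hσev, hσev, sameP_eq hdec, inv_mul_cancel]
        have e : ev L (p.V.reverse ++ p.U) = ev L (p.fac.flatMap Prod.fst) *
            ((ev L (p.fac.flatMap Prod.fst))⁻¹ * ev L (p.V.reverse ++ p.U)) :=
          (mul_inv_cancel_left _ _).symm
        rw [e, ← mul_assoc (A 2), hfacs _ fun f hf => hf, mul_assoc, hcen _ hz (A 2), ← mul_assoc]
      rw [ev_append, hrev] at hcomm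
      have hx : ev L (p.w.drop p.r ++ p.w.take p.r) = 1 := by
        rw [← hform, Pal.form]
        rw [ev_append, hpal _ _ hm, hpal _ _ hm']
        show ev L p.U * A 2 * (ev L p.U)⁻¹ * (ev L p.V * A 2 * (ev L p.V)⁻¹) = 1
        calc ev L p.U * A 2 * (ev L p.U)⁻¹ * (ev L p.V * A 2 * (ev L p.V)⁻¹)
            = ev L p.V * (((ev L p.V)⁻¹ * ev L p.U) * A 2) * ((ev L p.V)⁻¹ * ev L p.U)⁻¹ *
                A 2 * (ev L p.V)⁻¹ := by group
          _ = ev L p.V * (A 2 * ((ev L p.V)⁻¹ * ev L p.U)) * ((ev L p.V)⁻¹ * ev L p.U)⁻¹ *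
                A 2 * (ev L p.V)⁻¹ := by rw [hcomm]
          _ = ev L p.V * (A 2 * A 2) * (ev L p.V)⁻¹ := by group
          _ = 1 := by rw [hC2]; group
      rw [ev_append] at hx
      rw [← List.take_append_drop p.r p.w, ev_append, eq_inv_of_mul_eq_one_left hx, mul_inv_cancel]
  -- the table
  have hinv : ∀ x, fl L (id x) = (fl L x)⁻¹ := fun x => by
    rw [id, inv_eq_of_mul_eq_one_right (h2 x)]
  have hsubl : ∀ w ∈ Cov.subs, ∀ l ∈ w, l < 4 := by decide
  have htab : TableOK L (genW L Cov.subs) Cov.E id 16240 Cov.Rep Cov.Tb :=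
    tableOK_of_check hinv Cov.hR (hlen.symm ▸ Cov.hdefs) (hlen.symm ▸ Cov.hsteps)
      (hlen.symm ▸ Cov.htable) hrel (fun _ hw => ev_mem_genW hw)
  have hleD : genW L Cov.subs ≤ D σ := by
    rw [genW, Subgroup.closure_le]
    rintro x ⟨w, hw, rfl⟩
    exact hD4 w (hsubl w hw)
  have hleL : genW L Cov.subs ≤ Subgroup.closure {x | x ∈ L} := by
    rw [genW, Subgroup.closure_le]
    rintro x ⟨w, hw, rfl⟩
    exact ev_mem_closureL L w
  have hcardD : Nat.card (D σ) ≤ 17971200 := by
    have hmem : ∀ x : D σ, σ x ∈ K := fun x => by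
      have hx := Subgroup.mem_map_of_mem σ x.2
      rwa [map_D hs] at hx
    have := card_sub.1
    refine le_trans (Nat.card_le_card_of_injective (fun x : D σ => (⟨σ x, hmem x⟩ : K))
      fun x y hxy => ?_) card_sub.2
    have h : σ x = σ y := congrArg Subtype.val hxy
    refine Subtype.ext (inv_mul_eq_one.mp (D_inf_ker hs _ (mul_mem (inv_mem x.2) y.2) ?_))
    rw [map_mul, map_inv, h, inv_mul_cancel]
  obtain ⟨-, hc⟩ := htab.finite_card_le (by decide) hleL inferInstance
    ((Subgroup.card_le_of_le hleD).trans hcardD)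
  set C := Subgroup.closure {x | x ∈ L}
  have himg : C.map σ = ⊤ := by
    rw [MonoidHom.map_closure, eq_top_iff, ← closure_Lp]
    refine Subgroup.closure_mono fun y hy => ?_
    have hy' : y ∈ L.map σ := hmap.symm ▸ hy
    obtain ⟨x, hx, rfl⟩ := List.mem_map.mp hy'
    exact ⟨x, hx, rfl⟩
  have hcomC : commutator Γ ≤ C := by
    rw [_root_.commutator_def, Subgroup.commutator_le]
    intro a _ b _
    obtain ⟨a', ha', ea⟩ : σ a ∈ C.map σ := himg ▸ Subgroup.mem_top _
    obtain ⟨b', hb', eb⟩ : σ b ∈ C.map σ := himg ▸ Subgroup.mem_top _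
    have hz : ∀ {u v : Γ}, σ u = σ v → u⁻¹ * v ∈ Subgroup.center Γ := fun {u v} h =>
      hs.2.1 (by rw [MonoidHom.mem_ker, map_mul, map_inv, h, inv_mul_cancel])
    rw [← mul_inv_cancel_left a' a, ← mul_inv_cancel_left b' b,
      CfsgLib.Schur.commutator_mul_central (hz ea) (hz eb), commutatorElement_def]
    exact mul_mem (mul_mem (mul_mem ha' hb') (inv_mem ha')) (inv_mem hb')
  have hker : σ.ker ≤ C := hs.2.2.trans hcomC
  have hall : C = ⊤ := by
    refine eq_top_iff.mpr fun g _ => ?_
    obtain ⟨g', hg', eg⟩ : σ g ∈ C.map σ := himg ▸ Subgroup.mem_top _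
    rw [← mul_inv_cancel_left g' g]
    exact mul_mem hg' (hker (by rw [MonoidHom.mem_ker, map_mul, map_inv, eg, inv_mul_cancel]))
  rw [hall, Subgroup.card_top] at hc
  have hk := Subgroup.card_mul_index σ.ker
  rw [Subgroup.index_ker, MonoidHom.range_eq_top.mpr hs.1, Subgroup.card_top, card_P.1] at hk
  omega

end Bound

end CfsgLib.Coset.Ru.Schur
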