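import Cfsg.Agent.RuAut.Main
import Cfsg.Agent.Coset.Ru.Schur.Upper
import Cfsg.Agent.FGSB.StemExt

/-!
The derived group of the automorphism group of the lattice is a proper double cover of the presented
group, so the multiplier of the Rudvalis group is cyclic of order two.
-/

set_option autoImplicit false
set_option maxRecDepth 100000
set_option Elab.async false

namespace CfsgLib.Coset.Ru.Schur

open Cfsg.Spor CfsgLib.Coset CfsgLib.RuAut
open scoped commutatorElement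

/-- The first of two commuting elements. -/
def wa : List Nat := [4, 3, 1, 4, 3, 1, 4, 3, 1, 4, 3, 1, 4, 3, 1]

/-- The second of two commuting elements. -/
def wk : List Nat := [4, 3, 1, 4, 3, 1, 4, 3, 1, 4, 3, 1, 4, 3, 1, 0, 1, 3, 2, 1, 3, 4, 1, 3, 4, 1, 3, 4, 1, 3, 4,
    1, 3, 4, 2, 3, 1, 0, 4, 3, 1, 4, 3, 1, 4, 3, 1, 4, 3, 1, 4, 3, 1, 0, 1, 3, 2, 1, 3, 4, 1,
    3, 4, 1, 3, 4, 1, 3, 4, 1, 3, 4]

/-- The image of the first line under a word, with its unit. -/
noncomputable def accum : List Nat → Nat × Nat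
  | [] => (0, 0)
  | l :: w => (gT l (accum w).1, gU l (accum w).1 + (accum w).2)

theorem commute_check : sameP (wa ++ wk) (wk ++ wa) = true ∧ checkLetters 5 [wa, wk] = true ∧
    Nat.beq (accum (wa ++ wk ++ wa.reverse ++ wk.reverse)).1 0 = true ∧
    Nat.beq ((accum (wa ++ wk ++ wa.reverse ++ wk.reverse)).2 % 4) 0 = false := by
  refine ⟨?_, ?_, ?_, ?_⟩ <;> decide +kernel

/-- The lift of a generator. -/
noncomputable def lift (l : Fin 5) : fourRu := (exists_gen l).choose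

theorem lift_spec (l : Fin 5) : ∀ j < 4060,
    im (lift l) (V j) = Jn (gU l.1 j) (V (gT l.1 j)) := (exists_gen l).choose_spec

theorem lift_sq (l : Fin 5) : lift l * lift l = 1 := by
  refine ext_short fun j hj => ?_
  obtain ⟨h1, h2, h3, -⟩ := mat_V l hj
  have hV := V_mem_LR j hj
  rw [im_mul _ _ hV, lift_spec l j hj, im_Jn _ (V_mem_LR _ h1), lift_spec l _ h1, h2, ← Jn_add,
    Jn_mod, h3, im_one hV]
  rfl

/-- The lifts. -/
noncomputable def Lf : List fourRu := List.ofFn lift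

theorem len_Lf : Lf.length = 5 := by simp [Lf]

theorem fl_Lf (l : Fin 5) : fl Lf l.1 = lift l := by fin_cases l <;> rfl

theorem sq_Lf (x : Nat) : fl Lf x * fl Lf x = 1 := by
  rcases lt_or_ge x 5 with h | h
  · rw [show fl Lf x = lift ⟨x, h⟩ from fl_Lf ⟨x, h⟩]
    exact lift_sq _
  · rw [fl_of_le _ (by rw [len_Lf]; exact h), mul_one]

theorem ev_Lf_reverse : ∀ u : List Nat, ev Lf u.reverse = (ev Lf u)⁻¹
  | [] => by simp
  | k :: u => by
    rw [List.reverse_cons, ev_append, ev_Lf_reverse u, ev_cons, ev_cons, ev_nil, mul_one,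
      mul_inv_rev, inv_eq_of_mul_eq_one_right (sq_Lf k)]

theorem accum_spec : ∀ w : List Nat, (∀ l ∈ w, l < 5) → (accum w).1 < 4060 ∧
    im (ev Lf w) (V 0) = Jn (accum w).2 (V (accum w).1)
  | [], _ => ⟨by simp [accum], by rw [ev_nil, im_one (V_mem_LR 0 (by norm_num))]; rfl⟩
  | l :: w, h => by
    obtain ⟨h1, h2⟩ := accum_spec w fun m hm => h m (by simp [hm])
    have hl : l < 5 := h l (by simp)
    refine ⟨(mat_V ⟨l, hl⟩ h1).1, ?_⟩
    rw [ev_cons, im_mul _ _ (V_mem_LR 0 (by norm_num)), h2, im_Jn _ (V_mem_LR _ h1),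
      show fl Lf l = lift ⟨l, hl⟩ from fl_Lf ⟨l, hl⟩, lift_spec _ _ h1, ← Jn_add, Nat.add_comm]
    rfl

theorem commutator_ne_one : ⁅ev Lf wa, ev Lf wk⁆ ≠ 1 := by
  obtain ⟨-, hl, h1, h2⟩ := commute_check
  have hw : ∀ l ∈ wa ++ wk ++ wa.reverse ++ wk.reverse, l < 5 := by
    intro l hlw
    simp only [List.mem_append, List.mem_reverse] at hlw
    rcases hlw with ((h | h) | h) | h <;>
      first
        | exact letters_lt hl wa (by simp) l h
        | exact letters_lt hl wk (by simp) l h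
  intro he
  obtain ⟨-, hs⟩ := accum_spec _ hw
  rw [Nat.eq_of_beq_eq_true h1, ev_append, ev_append, ev_append, ev_Lf_reverse, ev_Lf_reverse,
    ← commutatorElement_def, he, im_one (V_mem_LR 0 (by norm_num)), Jn_mod] at hs
  have hu := Nat.mod_lt (accum (wa ++ wk ++ wa.reverse ++ wk.reverse)).2 (show 4 > 0 by norm_num)
  rw [← vec_mk hu] at hs
  have h0 := eq_zero_of_dot (by omega) hs.symm
  rw [show (accum (wa ++ wk ++ wa.reverse ++ wk.reverse)).2 % 4 = 0 by omega] at h2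
  exact Bool.noConfusion h2

/-- The map to the presented group. -/
noncomputable def σ₄ : fourRu →* P :=
  ((MonoidHom.ofInjective card_P.2).symm.toMonoidHom.comp
    (MulEquiv.subgroupCongr lineHom_range).toMonoidHom).comp lineHom.rangeRestrict

theorem ρ_σ₄ (f : fourRu) : ρ (σ₄ f) = lineHom f :=
  congrArg Subtype.val
    ((MonoidHom.ofInjective card_P.2).apply_symm_apply
      (MulEquiv.subgroupCongr lineHom_range (lineHom.rangeRestrict f)))

theorem σ₄_surjective : Function.Surjective σ₄ := fun p => by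
  obtain ⟨f, hf⟩ : ρ p ∈ lineHom.range := lineHom_range ▸ ⟨p, rfl⟩
  exact ⟨f, card_P.2 ((ρ_σ₄ f).trans hf)⟩

theorem ker_σ₄ : σ₄.ker = Subgroup.center fourRu := by
  rw [← ker_eq_center]
  ext f
  rw [MonoidHom.mem_ker, MonoidHom.mem_ker, ← ρ_σ₄]
  exact ⟨fun h => by rw [h, map_one], fun h => card_P.2 (h.trans (map_one ρ).symm)⟩

theorem σ₄_lift (l : Fin 5) : σ₄ (lift l) = fl Lp l.1 := by
  refine card_P.2 ((ρ_σ₄ _).trans (lineHom_eq fun j => ⟨gU l.1 j.1, ?_⟩))
  have hinv : ρ (fl Lp l.1) = (ρ (fl Lp l.1))⁻¹ := by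
    rw [← map_inv, inv_eq_of_mul_eq_one_right (sq_p l.1)]
  rw [lift_spec l j.1 j.2, hinv, matches_ρ l.1 (len_Lp.symm ▸ l.2) j]
  rfl

theorem σ₄_ev : ∀ w : List Nat, (∀ l ∈ w, l < 5) → σ₄ (ev Lf w) = ev Lp w
  | [], _ => by simp
  | l :: w, h => by
    rw [ev_cons, ev_cons, map_mul, σ₄_ev w fun m hm => h m (by simp [hm]),
      show fl Lf l = lift ⟨l, h l (by simp)⟩ from fl_Lf ⟨l, h l (by simp)⟩, σ₄_lift]

theorem perfect : commutator P = ⊤ := by
  have := Ru.isSimple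
  rcases Subgroup.Normal.eq_bot_or_eq_top (inferInstance : (commutator P).Normal) with h | h
  · exfalso
    refine bot_ne_top (α := Subgroup P) (center_P ▸ ?_)
    refine eq_top_iff.mpr fun x _ => Subgroup.mem_center_iff.mpr fun y => ?_
    have hm := Subgroup.commutator_mem_commutator (H₁ := (⊤ : Subgroup P)) (H₂ := ⊤)
      (Subgroup.mem_top y) (Subgroup.mem_top x)
    rwa [← _root_.commutator_def, h, Subgroup.mem_bot,
      commutatorElement_eq_one_iff_mul_comm] at hm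
  · exact h

theorem finite_fourRu : Finite fourRu := by
  refine Nat.finite_of_card_ne_zero ?_
  rw [← Subgroup.card_mul_index lineHom.ker, Subgroup.index_ker, ker_eq_center, card_center]
  exact Nat.mul_ne_zero (by norm_num) Nat.card_pos.ne'

/-- The double cover. -/
noncomputable abbrev Γ₀ : Subgroup fourRu := commutator fourRu

/-- The covering map. -/
noncomputable def σ₀ : Γ₀ →* P := σ₄.comp Γ₀.subtype

theorem map_Γ₀ : Γ₀.map σ₄ = ⊤ := by
  rw [Γ₀, _root_.commutator_def, Subgroup.map_commutator,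
    Subgroup.map_top_of_surjective _ σ₄_surjective, ← _root_.commutator_def, perfect]

theorem commutator_Γ₀ : commutator Γ₀ = ⊤ := by
  have hsplit : ∀ a : fourRu, ∃ d ∈ Γ₀, ∃ z ∈ Subgroup.center fourRu, a = d * z := by
    intro a
    obtain ⟨d, hd, he⟩ : σ₄ a ∈ Γ₀.map σ₄ := map_Γ₀ ▸ Subgroup.mem_top _
    refine ⟨d, hd, d⁻¹ * a, ?_, (mul_inv_cancel_left d a).symm⟩
    rw [← ker_σ₄, MonoidHom.mem_ker, map_mul, map_inv, he, inv_mul_cancel]
  have hle : Γ₀ ≤ (commutator Γ₀).map Γ₀.subtype := by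
    rw [_root_.commutator_def Γ₀, Subgroup.map_commutator, ← MonoidHom.range_eq_map,
      Subgroup.range_subtype]
    show commutator fourRu ≤ _
    rw [_root_.commutator_def, Subgroup.commutator_le]
    intro a _ b _
    obtain ⟨d, hd, z, hz, rfl⟩ := hsplit a
    obtain ⟨c, hc, w, hw, rfl⟩ := hsplit b
    rw [CfsgLib.Schur.commutator_mul_central hz hw]
    exact Subgroup.commutator_mem_commutator hd hc
  refine eq_top_iff.mpr fun x _ => ?_
  obtain ⟨y, hy, hyx⟩ := hle x.2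
  rwa [← Subtype.ext hyx]

theorem stem : Cfsg.IsStemExtension σ₀ := by
  refine ⟨fun p => ?_, fun x hx => Subgroup.mem_center_iff.mpr fun y => Subtype.ext ?_,
    commutator_Γ₀ ▸ le_top⟩
  · obtain ⟨f, hf, he⟩ : p ∈ Γ₀.map σ₄ := map_Γ₀ ▸ Subgroup.mem_top _
    exact ⟨⟨f, hf⟩, he⟩
  · have h : (x : fourRu) ∈ σ₄.ker := hx
    rw [ker_σ₄] at h
    exact Subgroup.mem_center_iff.mp h y.1

theorem card_ker : Nat.card σ₀.ker = 2 := by
  have := finite_fourRu
  have hle := card_ker_le stem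
  have hmem : ⁅ev Lf wa, ev Lf wk⁆ ∈ Γ₀ :=
    Subgroup.commutator_mem_commutator (Subgroup.mem_top _) (Subgroup.mem_top _)
  obtain ⟨hc, hl, -, -⟩ := commute_check
  have hk : σ₄ ⁅ev Lf wa, ev Lf wk⁆ = 1 := by
    rw [map_commutatorElement, σ₄_ev _ (letters_lt hl wa (by simp)),
      σ₄_ev _ (letters_lt hl wk (by simp)), commutatorElement_eq_one_iff_mul_comm,
      ← ev_append, ← ev_append]
    exact sameP_eq hc
  have hne : Nat.card σ₀.ker ≠ 1 := by
    intro h1
    have := (Nat.card_eq_one_iff_unique.mp h1).1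
    have e : (⟨⟨_, hmem⟩, MonoidHom.mem_ker.mpr hk⟩ : σ₀.ker) = 1 := Subsingleton.elim _ _
    exact commutator_ne_one (congrArg (fun x : σ₀.ker => ((x : Γ₀) : fourRu)) e)
  have h0 : 0 < Nat.card σ₀.ker := Nat.card_pos
  omega

theorem hasSchur_Ru : Cfsg.HasCyclicSchurMultiplier Cfsg.Spor.Ru 2 := by
  have := finite_fourRu
  have := card_P_le.1
  obtain ⟨e⟩ := nonempty_equiv
  let τ : Γ₀ →* Cfsg.Spor.Ru := e.symm.toMonoidHom.comp σ₀
  have hk : τ.ker = σ₀.ker := MonoidHom.ker_mulEquiv_comp _ e.symm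
  have hτ : Cfsg.IsStemExtension τ :=
    ⟨e.symm.surjective.comp stem.1, hk ▸ stem.2.1, hk ▸ stem.2.2⟩
  have hcard : Nat.card τ.ker = 2 := by rw [hk]; exact card_ker
  haveI : Fact (Nat.Prime 2) := ⟨Nat.prime_two⟩
  refine CfsgLib.StemExt.hasCyclicSchurMultiplier τ hτ (isCyclic_of_prime_card hcard) hcard
    fun Γ _ _ σ hσ => ?_
  have hk' : (e.toMonoidHom.comp σ).ker = σ.ker := MonoidHom.ker_mulEquiv_comp _ e
  have hle : Nat.card σ.ker ≤ 2 := by
    rw [← hk']
    exact card_ker_le ⟨e.surjective.comp hσ.1, hk' ▸ hσ.2.1, hk' ▸ hσ.2.2⟩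
  have h0 : 0 < Nat.card σ.ker := Nat.card_pos
  rcases (show Nat.card σ.ker = 1 ∨ Nat.card σ.ker = 2 by omega) with h1 | h1
  · have := (Nat.card_eq_one_iff_unique.mp h1).1
    exact ⟨inferInstance, h1 ▸ one_dvd _⟩
  · exact ⟨isCyclic_of_prime_card h1, h1 ▸ dvd_rfl⟩

end CfsgLib.Coset.Ru.Schur
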